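import Mathlib

/-!
# Multiplicativity of the rank of finite flat morphisms
-/

universe u

set_option backward.isDefEq.respectTransparency false
set_option backward.isDefEq.respectTransparency.types false

open CategoryTheory CategoryTheory.Limits AlgebraicGeometry
open scoped TensorProduct

namespace Groth.Agent.EtSplit24

theorem finrank_tower_of_rankAtStalk {K B C : Type u} [Field K] [CommRing B] [CommRing C] [Algebra K B] [Algebra B C]
    [Algebra K C] [IsScalarTower K B C] [Module.Finite K B] [Module.Finite B C] [Module.Flat B C] (m : ℕ)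
    (h : ∀ p : PrimeSpectrum B, Module.rankAtStalk C p = m) :
    Module.finrank K C = m * Module.finrank K B := by
  haveI : IsArtinianRing B := IsArtinianRing.of_finite K B
  obtain ⟨b⟩ := Module.nonempty_basis_of_flat_of_finrank_eq B C m fun P => by
    letI := Ideal.Quotient.field P.1
    rw [← h (PrimeSpectrum.comap (algebraMap B (B ⧸ P.1)) default),
      ← Module.rankAtStalk_baseChange (M := C), Module.rankAtStalk_eq_finrank_of_free]
    rfl
  haveI : Module.Free B C := Module.Free.of_basis b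
  haveI : Module.Free K B := Module.Free.of_divisionRing K B
  rcases subsingleton_or_nontrivial B with hB | hB
  · haveI : Subsingleton C := Module.subsingleton B C
    simp [Module.finrank_zero_of_subsingleton]
  rw [← Module.finrank_mul_finrank K B C, mul_comm, Module.finrank_eq_card_basis b, Fintype.card_fin]

theorem finrank_comp_field {W X : Scheme.{u}} {K : Type u} [Field K] (g : W ⟶ X)
    (f : X ⟶ Spec (CommRingCat.of K)) [IsFinite g] [Flat g] [IsFinite f] [Flat f]
    (m : ℕ) (hm : ∀ x, g.finrank x = m) (y : Spec (CommRingCat.of K)) : (g ≫ f).finrank y = m * f.finrank y := by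
  haveI : IsAffine X := isAffine_of_isAffineHom f
  haveI : IsAffine W := isAffine_of_isAffineHom g
  obtain ⟨φ, hφ⟩ := Spec.map_surjective (X.isoSpec.inv ≫ f)
  obtain ⟨ψ, hψ⟩ := Spec.map_surjective (W.isoSpec.inv ≫ g ≫ X.isoSpec.hom)
  have hf : X.isoSpec.hom ≫ Spec.map φ = f := by rw [hφ, Iso.hom_inv_id_assoc]
  have hg : W.isoSpec.hom ≫ Spec.map ψ ≫ X.isoSpec.inv = g := by simp [hψ]
  haveI : IsFinite (Spec.map φ) := by rw [hφ]; infer_instance
  haveI : Flat (Spec.map φ) := by rw [hφ]; infer_instance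
  haveI : IsFinite (Spec.map ψ) := by rw [hψ]; infer_instance
  haveI : Flat (Spec.map ψ) := by rw [hψ]; infer_instance
  have hm' : ∀ x, (Spec.map ψ).finrank x = m := fun x => by
    rw [← Scheme.Hom.finrank_comp_left_of_isIso W.isoSpec.hom]
    have h : IsPullback (𝟙 W) (W.isoSpec.hom ≫ Spec.map ψ) g X.isoSpec.inv :=
      IsPullback.of_horiz_isIso ⟨by simp [hψ]⟩
    rw [Scheme.Hom.finrank_of_isPullback _ _ _ _ h, hm]
  have e1 : g ≫ f = W.isoSpec.hom ≫ Spec.map (φ ≫ ψ) := by
    rw [Spec.map_comp, ← hg, ← hf]; simp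
  haveI : IsFinite (Spec.map (φ ≫ ψ)) := by rw [Spec.map_comp]; infer_instance
  haveI : Flat (Spec.map (φ ≫ ψ)) := by rw [Spec.map_comp]; infer_instance
  rw [e1, ← hf]
  rw [Scheme.Hom.finrank_comp_left_of_isIso, Scheme.Hom.finrank_comp_left_of_isIso]
  letI := φ.hom.toAlgebra
  letI := ψ.hom.toAlgebra
  letI := (φ ≫ ψ).hom.toAlgebra
  haveI : IsScalarTower K Γ(X, ⊤) Γ(W, ⊤) := IsScalarTower.of_algebraMap_eq' rfl
  have hφf := (IsFinite.SpecMap_iff φ).mp inferInstance
  have hψf := (IsFinite.SpecMap_iff ψ).mp inferInstance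
  haveI : Module.Finite K Γ(X, ⊤) := hφf
  haveI : Module.Finite Γ(X, ⊤) Γ(W, ⊤) := hψf
  haveI : Module.Flat Γ(X, ⊤) Γ(W, ⊤) := (Flat.SpecMap_iff (f := ψ)).mp inferInstance
  haveI : Module.Finite K Γ(W, ⊤) := Module.Finite.trans Γ(X, ⊤) Γ(W, ⊤)
  have k1 := finrank_tower_of_rankAtStalk (K := K) (B := Γ(X, ⊤)) (C := Γ(W, ⊤)) m fun p => by
    rw [← hm' p]
    exact (Scheme.Hom.finrank_SpecMap_algebraMap Γ(X, ⊤) Γ(W, ⊤) p).symm
  have k2 : (Spec.map (φ ≫ ψ)).finrank y = Module.finrank K Γ(W, ⊤) :=
    (Scheme.Hom.finrank_SpecMap_algebraMap K Γ(W, ⊤) y).trans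
      (congrFun Module.rankAtStalk_eq_finrank_of_free y)
  have k3 : (Spec.map φ).finrank y = Module.finrank K Γ(X, ⊤) :=
    (Scheme.Hom.finrank_SpecMap_algebraMap K Γ(X, ⊤) y).trans
      (congrFun Module.rankAtStalk_eq_finrank_of_free y)
  rw [k2, k3, k1]

/-- The rank of a composite, the first morphism of constant rank. -/
theorem finrank_comp_const {W X S : Scheme.{u}} (g : W ⟶ X) (f : X ⟶ S) [IsFinite g] [Flat g] [IsFinite f] [Flat f]
    (m : ℕ) (hm : ∀ x, g.finrank x = m) (s : S) : (g ≫ f).finrank s = m * f.finrank s := by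
  let t := S.fromSpecResidueField s
  let y : Spec (S.residueField s) := IsLocalRing.closedPoint _
  have hy : t y = s := S.fromSpecResidueField_apply s y
  let f' := pullback.snd f t
  let g' := pullback.snd g (pullback.fst f t)
  have hgf : IsPullback (pullback.fst g (pullback.fst f t)) (g' ≫ f') (g ≫ f) t :=
    (IsPullback.of_hasPullback g (pullback.fst f t)).paste_vert (IsPullback.of_hasPullback f t)
  rw [← hy, ← Scheme.Hom.finrank_of_isPullback _ _ _ _ hgf y, ← Scheme.Hom.finrank_pullback_snd f t y]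
  have hm' : ∀ x, g'.finrank x = m := fun x => by rw [Scheme.Hom.finrank_pullback_snd, hm]
  show (g' ≫ f').finrank y = m * f'.finrank y
  haveI : IsAffine (pullback f t) := isAffine_of_isAffineHom f'
  haveI : IsAffine (pullback g (pullback.fst f t)) := isAffine_of_isAffineHom g'
  haveI : IsFinite g' := inferInstance
  haveI : Flat g' := inferInstance
  exact finrank_comp_field g' f' m hm' y

end Groth.Agent.EtSplit24
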