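import Mathlib
import Groth.Agent.EtSplit7.Split
import Groth.Agent.EtSplit24.Comp

/-! Splitting finite étale morphisms of constant rank by finite étale covers of rank `n!`. -/

universe u

set_option backward.isDefEq.respectTransparency false
set_option backward.isDefEq.respectTransparency.types false

open CategoryTheory CategoryTheory.Limits AlgebraicGeometry

namespace Groth.Agent.EtSplit24

open Groth.Agent.EtSplit7 (finrank_coprod_desc sigmaFinSucc)

/-- Finite étale morphisms of constant rank split over finite étale covers of rank `n!`. -/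
theorem exists_split_etale (n : ℕ) : ∀ {X S : Scheme.{u}} (φ : X ⟶ S) [IsFinite φ] [Etale φ],
    (∀ s, φ.finrank s = n) →
    ∃ (Y : Scheme.{u}) (ψ : Y ⟶ S), IsFinite ψ ∧ Etale ψ ∧ (∀ s, ψ.finrank s = n.factorial) ∧ Surjective ψ ∧
      ∃ s : Fin n → (Y ⟶ pullback φ ψ), (∀ i, s i ≫ pullback.snd φ ψ = 𝟙 Y) ∧ IsIso (Sigma.desc s) := by
  induction n with
  | zero =>
    intro X S φ _ _ hr
    refine ⟨S, 𝟙 S, inferInstance, inferInstance, fun s => by simp [Scheme.Hom.finrank_eq_one_of_isIso], inferInstance, Fin.elim0, fun i => i.elim0, ?_⟩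
    have hX : IsEmpty X := ⟨fun x => by
      have := Scheme.Hom.one_le_finrank_map φ x; rw [hr] at this; omega⟩
    have : IsEmpty (pullback φ (𝟙 S) : Scheme.{u}) := ⟨fun x => hX.elim (pullback.fst φ (𝟙 S) x)⟩
    have : IsEmpty (∐ fun _ : Fin 0 => S : Scheme.{u}) :=
      ⟨fun x => ((Limits.Sigma.desc fun i : Fin 0 => i.elim0) : (∐ fun _ : Fin 0 => S) ⟶ (∅ : Scheme.{u})) x |>.elim⟩
    exact ⟨isInitialOfIsEmpty.to _, isInitialOfIsEmpty.hom_ext _ _, isInitialOfIsEmpty.hom_ext _ _⟩
  | succ n ih =>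
    intro X S φ _ _ hr
    set pr := pullback.snd φ φ with hpr
    set δ := pullback.diagonal φ with hδ
    have hδp : δ ≫ pr = 𝟙 X := pullback.diagonal_snd φ
    have hδc : IsClosedImmersion δ := IsSeparated.diagonal_isClosedImmersion
    let U : (pullback φ φ : Scheme.{u}).Opens :=
      ⟨(Set.range δ)ᶜ, δ.isClosedEmbedding.isClosed_range.isOpen_compl⟩
    have hUc : IsClosedImmersion U.ι := .of_isPreimmersion _ (by
      rw [Scheme.Opens.range_ι]
      exact δ.isOpenEmbedding.isOpen_range.isClosed_compl)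
    have hcompl : IsCompl δ.opensRange U.ι.opensRange := by
      rw [Scheme.Opens.opensRange_ι, isCompl_iff, disjoint_iff, codisjoint_iff]
      constructor <;> ext x <;> simp [U]
    obtain ⟨hc⟩ := nonempty_isColimit_binaryCofanMk_of_isCompl δ U.ι hcompl
    set q := U.ι ≫ pr with hq
    let e : X ⨿ (U : Scheme.{u}) ≅ pullback φ φ := (coprodIsCoprod _ _).coconePointUniqueUpToIso hc
    have he : e.hom ≫ pr = coprod.desc (𝟙 X) q := by
      apply coprod.hom_ext
      · rw [coprod.inl_desc, ← hδp, ← Category.assoc]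
        exact congrArg (· ≫ pr) ((coprodIsCoprod _ _).comp_coconePointUniqueUpToIso_hom hc ⟨WalkingPair.left⟩)
      · rw [coprod.inr_desc, hq, ← Category.assoc]
        exact congrArg (· ≫ pr) ((coprodIsCoprod _ _).comp_coconePointUniqueUpToIso_hom hc ⟨WalkingPair.right⟩)
    have hrq : ∀ x, q.finrank x = n := fun x => by
      have : Flat (coprod.desc (𝟙 X) q) := by rw [← he]; infer_instance
      have h1 := finrank_coprod_desc (𝟙 X) q x
      have h2 : (coprod.desc (𝟙 X) q).finrank x = pr.finrank x := by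
        simp only [← he]
        rw [Scheme.Hom.finrank_comp_left_of_isIso]
      rw [h2, hpr, Scheme.Hom.finrank_pullback_snd, hr, Scheme.Hom.finrank_eq_one_of_isIso, Pi.one_apply] at h1
      omega
    obtain ⟨Y, ψ, hf, hfl, hfp, hs, s, hs1, hs2⟩ := ih q hrq
    have hsurj : Surjective φ := (Scheme.Hom.one_le_finrank_iff_surjective φ).1 fun x => by
      simp [hr x]
    refine ⟨Y, ψ ≫ φ, inferInstance, inferInstance, fun x => by rw [finrank_comp_const ψ φ _ hfp x, hr, Nat.factorial_succ, mul_comm], inferInstance, ?_⟩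
    -- the pullback of `φ` along `ψ ≫ φ` is the pullback of `pr` along `ψ`
    let E : pullback φ (ψ ≫ φ) ≅ pullback pr ψ := (pullbackLeftPullbackSndIso φ φ ψ).symm
    have hE : E.inv ≫ pullback.snd φ (ψ ≫ φ) = pullback.snd pr ψ := by simp [E]; rfl
    let s₀ : Y ⟶ pullback pr ψ := pullback.lift (ψ ≫ δ) (𝟙 Y) (by simp [hδp])
    let j : pullback q ψ ⟶ pullback pr ψ := pullback.map q ψ pr ψ U.ι (𝟙 _) (𝟙 _) (by simp [hq]) (by simp)
    have hs₀ : s₀ ≫ pullback.snd pr ψ = 𝟙 Y := pullback.lift_snd _ _ _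
    have hj : j ≫ pullback.snd pr ψ = pullback.snd q ψ := (pullback.lift_snd _ _ _).trans (Category.comp_id _)
    have h0 : IsPullback s₀ ψ (pullback.fst pr ψ) δ := by
      refine (IsPullback.of_right ?_ (pullback.lift_fst _ _ _) (IsPullback.of_hasPullback pr ψ).flip)
      rw [hs₀, hδp]
      exact IsPullback.of_horiz_isIso ⟨by simp⟩
    have h1 : IsPullback j (pullback.fst q ψ) (pullback.fst pr ψ) U.ι := by
      refine (IsPullback.of_right ?_ (pullback.lift_fst _ _ _) (IsPullback.of_hasPullback pr ψ).flip)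
      rw [hj]
      exact (IsPullback.of_hasPullback q ψ).flip
    obtain ⟨hc'⟩ := ((BinaryCofan.isVanKampen_iff _).1 (FinitaryExtensive.vanKampen _ hc)
      (BinaryCofan.mk s₀ j) ψ (pullback.fst q ψ) (pullback.fst pr ψ) h0.w.symm h1.w.symm).2 ⟨h0, h1⟩
    refine ⟨fun i => Fin.cases s₀ (fun k => s k ≫ j) i ≫ E.inv, fun i => ?_, ?_⟩
    · rw [Category.assoc, hE]
      cases i using Fin.cases with
      | zero => simpa using hs₀
      | succ k => simp [hj, hs1 k]
    · have : (Limits.Sigma.desc fun i => Fin.cases s₀ (fun k => s k ≫ j) i ≫ E.inv) =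
          (sigmaFinSucc Y n).hom ≫ coprod.map (𝟙 Y) (Sigma.desc s) ≫ coprod.desc s₀ j ≫ E.inv := by
        apply Sigma.hom_ext
        intro i
        cases i using Fin.cases <;> simp [sigmaFinSucc]
      rw [this]
      have : IsIso (coprod.desc s₀ j) :=
        (show ((coprodIsCoprod Y (pullback q ψ)).coconePointUniqueUpToIso hc').hom = coprod.desc s₀ j by
          apply coprod.hom_ext
          · rw [coprod.inl_desc]
            exact (coprodIsCoprod Y (pullback q ψ)).comp_coconePointUniqueUpToIso_hom hc' ⟨WalkingPair.left⟩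
          · rw [coprod.inr_desc]
            exact (coprodIsCoprod Y (pullback q ψ)).comp_coconePointUniqueUpToIso_hom hc' ⟨WalkingPair.right⟩) ▸ inferInstance
      infer_instance

end Groth.Agent.EtSplit24
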